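import Mathlib

/-!
# Descending an ideal from a faithfully flat cover, given a descended lift modulo a nilpotent ideal
-/

set_option autoImplicit false
set_option linter.unusedSectionVars false

universe u

open TensorProduct

namespace Groth.Agent.FamCyc14

section mulK

variable {A : Type u} [CommRing A] (K : Ideal A) (C : Type u) [AddCommGroup C] [Module A C]

/-- The multiplication map `C ⊗ K → C`. -/
noncomputable def muK : C ⊗[A] K →ₗ[A] C :=
  (TensorProduct.rid A C).toLinearMap ∘ₗ LinearMap.lTensor C K.subtype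

@[simp]
theorem muK_tmul (c : C) (j : K) : muK K C (c ⊗ₜ j) = (j : A) • c := rfl

theorem muK_injective [Module.Flat A C] : Function.Injective (muK K C) :=
  (TensorProduct.rid A C).injective.comp
    (Module.Flat.lTensor_preserves_injective_linearMap K.subtype K.subtype_injective)

theorem muK_natural {C' : Type u} [AddCommGroup C'] [Module A C'] (f : C →ₗ[A] C') (v : C ⊗[A] K) :
    f (muK K C v) = muK K C' (f.rTensor K v) := by
  induction v with
  | zero => simp
  | tmul c j => simp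
  | add x y hx hy => simp [hx, hy]

end mulK

section lift

variable {A C : Type u} [CommRing A] [CommRing C] [Algebra A C] (K : Ideal A) (W : Ideal C)

theorem muK_smul (c : C) (v : C ⊗[A] K) : muK K C (c • v) = c * muK K C v := by
  induction v with
  | zero => simp
  | tmul x j => rw [TensorProduct.smul_tmul', muK_tmul, muK_tmul, smul_eq_mul, mul_smul_comm]
  | add x y hx hy => simp [smul_add, hx, hy, mul_add]

theorem exists_muK_eq {x : C} (hx : x ∈ K.map (algebraMap A C)) : ∃ v : C ⊗[A] K, muK K C v = x := by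
  refine Submodule.span_induction ?_ ⟨0, map_zero _⟩ ?_ ?_ hx
  · rintro _ ⟨a, ha, rfl⟩
    exact ⟨1 ⊗ₜ ⟨a, ha⟩, by simp [Algebra.smul_def]⟩
  · rintro _ _ _ _ ⟨v, rfl⟩ ⟨w, rfl⟩
    exact ⟨v + w, map_add _ _ _⟩
  · rintro c _ _ ⟨v, rfl⟩
    exact ⟨c • v, muK_smul K c v⟩

theorem muK_mem (v : C ⊗[A] K) : muK K C v ∈ K.map (algebraMap A C) := by
  induction v with
  | zero => simp
  | tmul x j =>
    rw [muK_tmul, Algebra.smul_def]
    exact Ideal.mul_mem_right _ _ (Ideal.mem_map_of_mem _ j.2)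
  | add x y hx hy => rw [map_add]; exact add_mem hx hy

/-- If `C ⧸ W` is flat, a preimage of an element of `W` comes from `W ⊗ K`. -/
theorem exists_rTensor_eq [Module.Flat A (C ⧸ W)] {v : C ⊗[A] K} (hv : muK K C v ∈ W) :
    ∃ w : W.restrictScalars A ⊗[A] K, LinearMap.rTensor K (W.restrictScalars A).subtype w = v := by
  refine (rTensor_exact (K : Type u) (f := (W.restrictScalars A).subtype)
    (g := (Ideal.Quotient.mkₐ A W).toLinearMap) ?_ Ideal.Quotient.mk_surjective v).1 ?_
  · intro y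
    exact ⟨fun h => ⟨⟨y, Ideal.Quotient.eq_zero_iff_mem.1 h⟩, rfl⟩,
      by rintro ⟨z, rfl⟩; exact Ideal.Quotient.eq_zero_iff_mem.2 z.2⟩
  · refine muK_injective K (C ⧸ W) ?_
    rw [← muK_natural, map_zero]
    exact Ideal.Quotient.eq_zero_iff_mem.2 hv

theorem inf_map_le [Module.Flat A (C ⧸ W)] : W ⊓ K.map (algebraMap A C) ≤ K.map (algebraMap A C) * W := by
  rintro x ⟨hxW, hxK⟩
  obtain ⟨v, rfl⟩ := exists_muK_eq K hxK
  obtain ⟨w, rfl⟩ := exists_rTensor_eq K W hxW
  clear hxW hxK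
  induction w with
  | zero => simp
  | tmul y j =>
    rw [LinearMap.rTensor_tmul, muK_tmul, Algebra.smul_def]
    exact Ideal.mul_mem_mul (Ideal.mem_map_of_mem _ j.2) y.2
  | add y z hy hz =>
    rw [map_add, map_add]
    exact add_mem hy hz

theorem exists_fg_le_of_le_map {B : Type u} [CommRing B] (f : B →+* C) (I : Ideal B) {x : C}
    (hx : x ∈ I.map f) : ∃ T : Finset B, (T : Set B) ⊆ I ∧ x ∈ (Ideal.span (T : Set B)).map f := by
  classical
  obtain ⟨S, hS, hxS⟩ := Submodule.mem_span_finite_of_mem_span (hx : x ∈ Submodule.span C (f '' I))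
  obtain ⟨T, hT, rfl⟩ := Finset.subset_set_image_iff.1 hS
  refine ⟨T, hT, ?_⟩
  rw [Ideal.map_span, ← Finset.coe_image]
  exact hxS

end lift

theorem le_sup_mul_step {C : Type u} [CommRing C] {P Q R W : Ideal C} (h : W ≤ P ⊔ Q * W) (h' : W ≤ P ⊔ R * W) :
    W ≤ P ⊔ Q * R * W := by
  refine h.trans (sup_le le_sup_left ((Ideal.mul_mono_right (I := Q) h').trans ?_))
  rw [Ideal.mul_sup, ← mul_assoc]
  exact sup_le_sup_right Ideal.mul_le_right _

section core

variable {A B C C2 : Type u} [CommRing A] [CommRing B] [CommRing C] [CommRing C2]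
  [Algebra A B] [Algebra A C] [Algebra A C2] [Algebra B C] [Algebra B C2]
  [IsScalarTower A B C] [IsScalarTower A B C2]

variable (d₁ d₂ : C →ₐ[B] C2) (W : Ideal C) (W2 : Ideal C2)
  (glue : ∀ (M : Type u) [AddCommGroup M] [Module B M] (t : C ⊗[B] M),
    d₁.toLinearMap.rTensor M t = d₂.toLinearMap.rTensor M t → ∃ m : M, t = 1 ⊗ₜ[B] m)
  (h₁ : W.map d₁ = W2) (h₂ : W.map d₂ = W2)
  [Module.Flat A (C ⧸ W)] [Module.Flat A (C2 ⧸ W2)]

include glue h₁ h₂ in
/-- The inductive step: improve a lift from precision `K` to precision `K * J`. -/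
theorem step (J K : Ideal A) (Ia : Ideal B) (hIa : Ia.map (algebraMap B C) ≤ W ⊔ J.map (algebraMap A C))
    (hW : W ≤ Ia.map (algebraMap B C)) {a : B}
    (ha : algebraMap B C a ∈ W ⊔ K.map (algebraMap A C)) :
    ∃ b ∈ K.map (algebraMap A B),
      algebraMap B C (a - b) ∈ W ⊔ (K * J).map (algebraMap A C) := by
  obtain ⟨w, hw, x, hx, hwx⟩ := Submodule.mem_sup.1 ha
  obtain ⟨z, rfl⟩ := exists_muK_eq K hx
  let M := (B ⧸ Ia) ⊗[A] K
  let Ψ : C ⊗[A] K →ₗ[A] C ⊗[B] M :=
    TensorProduct.lift (LinearMap.mk₂ A (fun c j => c ⊗ₜ[B] ((1 : B ⧸ Ia) ⊗ₜ[A] j))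
      (fun _ _ _ => TensorProduct.add_tmul _ _ _) (fun _ _ _ => by rw [← TensorProduct.smul_tmul'])
      (fun _ _ _ => by rw [TensorProduct.tmul_add, TensorProduct.tmul_add])
      (fun _ _ _ => by rw [TensorProduct.tmul_smul, TensorProduct.tmul_smul]))
  let Ψ₂ : C2 ⊗[A] K →ₗ[A] C2 ⊗[B] M :=
    TensorProduct.lift (LinearMap.mk₂ A (fun c j => c ⊗ₜ[B] ((1 : B ⧸ Ia) ⊗ₜ[A] j))
      (fun _ _ _ => TensorProduct.add_tmul _ _ _) (fun _ _ _ => by rw [← TensorProduct.smul_tmul'])
      (fun _ _ _ => by rw [TensorProduct.tmul_add, TensorProduct.tmul_add])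
      (fun _ _ _ => by rw [TensorProduct.tmul_smul, TensorProduct.tmul_smul]))
  have hnat : ∀ (e : C →ₐ[B] C2) (v : C ⊗[A] K), e.toLinearMap.rTensor M (Ψ v) =
      Ψ₂ ((e.toLinearMap.restrictScalars A).rTensor K v) := by
    intro e v
    induction v with
    | zero => simp
    | tmul c j => rfl
    | add p q hp hq => simp [hp, hq]
  have hkill : ∀ w ∈ W2, ∀ j : K, Ψ₂ (w ⊗ₜ j) = 0 := by
    intro w hw j
    have hw' : w ∈ Ia.map (algebraMap B C2) := by
      rw [← h₁] at hw
      have h3 := Ideal.map_mono (f := d₁) hW hw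
      have e : (Ia.map (algebraMap B C)).map d₁ = Ia.map (algebraMap B C2) :=
        (Ideal.map_map (I := Ia) (algebraMap B C) d₁.toRingHom).trans
          (congrArg (fun φ => Ia.map φ) (RingHom.ext d₁.commutes))
      rwa [e] at h3
    show w ⊗ₜ[B] ((1 : B ⧸ Ia) ⊗ₜ[A] j) = 0
    refine Submodule.span_induction ?_ (TensorProduct.zero_tmul _ _) ?_ ?_ hw'
    · rintro _ ⟨e, he, rfl⟩
      have h0 : e • (1 : B ⧸ Ia) = 0 := by
        rw [Algebra.smul_def, _root_.mul_one]
        exact Ideal.Quotient.eq_zero_iff_mem.2 he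
      rw [Algebra.algebraMap_eq_smul_one, TensorProduct.smul_tmul, TensorProduct.smul_tmul', h0,
        TensorProduct.zero_tmul, TensorProduct.tmul_zero]
    · intro p q _ _ hp hq
      rw [TensorProduct.add_tmul, hp, hq, add_zero]
    · intro c p _ hp
      rw [← TensorProduct.smul_tmul', hp, smul_zero]
  have hwx' : w + muK K C z = algebraMap B C a := hwx
  have hd : ∀ e : C →ₐ[B] C2, muK K C2 ((e.toLinearMap.restrictScalars A).rTensor K z) =
      algebraMap B C2 a - e w := by
    intro e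
    rw [← muK_natural]
    show e (muK K C z) = _
    rw [eq_sub_iff_add_eq', ← map_add, hwx', AlgHom.commutes]
  have hover : d₁.toLinearMap.rTensor M (Ψ z) = d₂.toLinearMap.rTensor M (Ψ z) := by
    rw [hnat, hnat, ← sub_eq_zero, ← map_sub]
    obtain ⟨v, hv⟩ := exists_rTensor_eq K W2 (v := (d₁.toLinearMap.restrictScalars A).rTensor K z -
        (d₂.toLinearMap.restrictScalars A).rTensor K z) (by
      rw [map_sub, hd, hd, sub_sub_sub_cancel_left]
      exact sub_mem (h₂ ▸ Ideal.mem_map_of_mem _ hw) (h₁ ▸ Ideal.mem_map_of_mem _ hw))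
    rw [← hv]
    clear hv
    induction v with
    | zero => simp
    | tmul y j => exact hkill y y.2 j
    | add p q hp hq => rw [map_add, map_add, hp, hq, add_zero]
  obtain ⟨m, hm⟩ := glue M (Ψ z) hover
  have hsurj : Function.Surjective (LinearMap.rTensor K (Ideal.Quotient.mkₐ A Ia).toLinearMap) :=
    LinearMap.rTensor_surjective K Ideal.Quotient.mk_surjective
  obtain ⟨s, rfl⟩ := hsurj m
  refine ⟨muK K B s, muK_mem _ _, ?_⟩
  let Q := C ⧸ (W ⊔ (K * J).map (algebraMap A C))
  let mkQ : C →ₐ[A] Q := Ideal.Quotient.mkₐ A _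
  let g₀ : B →ₗ[B] (K →ₗ[A] Q) := LinearMap.toSpanSingleton B _
    (mkQ.toLinearMap ∘ₗ Algebra.linearMap A C ∘ₗ K.subtype)
  have hker : Ia ≤ LinearMap.ker g₀ := by
    intro e he
    rw [LinearMap.mem_ker]
    ext j
    show e • mkQ (algebraMap A C (j : A)) = 0
    rw [Algebra.smul_def, show algebraMap B Q e = mkQ (algebraMap B C e) from rfl, ← map_mul,
      Ideal.Quotient.mkₐ_eq_mk, Ideal.Quotient.eq_zero_iff_mem]
    obtain ⟨p, hp, q, hq, hpq⟩ := Submodule.mem_sup.1 (hIa (Ideal.mem_map_of_mem _ he))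
    rw [← hpq, add_mul]
    refine Submodule.add_mem_sup (W.mul_mem_right _ hp) ?_
    rw [mul_comm q, Ideal.map_mul]
    exact Ideal.mul_mem_mul (Ideal.mem_map_of_mem _ j.2) hq
  let Θ : C ⊗[B] M →ₗ[C] Q :=
    (TensorProduct.AlgebraTensorModule.lift (Submodule.liftQ Ia g₀ hker)).liftBaseChange C
  have hΘ : ∀ v, Θ (Ψ v) = mkQ (muK K C v) := by
    intro v
    induction v with
    | zero => simp
    | tmul c j =>
      show c • ((1 : B) • mkQ (algebraMap A C (j : A))) = mkQ ((j : A) • c)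
      rw [one_smul, Algebra.smul_def, Algebra.smul_def (j : A), map_mul, mul_comm]
      rfl
    | add p q hp hq => simp [hp, hq]
  have hΘ2 : ∀ s : B ⊗[A] K, Θ (1 ⊗ₜ[B] LinearMap.rTensor K (Ideal.Quotient.mkₐ A Ia).toLinearMap s) =
      mkQ (algebraMap B C (muK K B s)) := by
    intro s
    induction s with
    | zero => simp
    | tmul e j =>
      show (1 : C) • (e • mkQ (algebraMap A C (j : A))) = mkQ (algebraMap B C ((j : A) • e))
      rw [one_smul, Algebra.smul_def, Algebra.smul_def (j : A), map_mul, map_mul, mul_comm,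
        ← IsScalarTower.algebraMap_apply]
      rfl
    | add p q hp hq => simp [TensorProduct.tmul_add, hp, hq]
  have key := congrArg Θ hm
  rw [hΘ, hΘ2, Ideal.Quotient.mkₐ_eq_mk, Ideal.Quotient.eq] at key
  have e : algebraMap B C (a - muK K B s) = w + (muK K C z - algebraMap B C (muK K B s)) := by
    rw [map_sub, ← hwx']
    ring
  rw [e]
  exact add_mem (Ideal.mem_sup_left hw) key

set_option maxHeartbeats 400000 in
include glue h₁ h₂ in
theorem exists_ideal (hfg : W.FG) (N : Ideal A) (hN : N ≤ nilradical A) (I₀ : Ideal B)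
    (h₀ : I₀.map (algebraMap B C) ⊔ N.map (algebraMap A C) = W ⊔ N.map (algebraMap A C)) :
    ∃ I : Ideal B, I.FG ∧ I.map (algebraMap B C) = W := by
  classical
  have h1 : ∀ y ∈ W, ∃ (T : Finset B) (U : Finset A), (T : Set B) ⊆ I₀ ∧ (U : Set A) ⊆ N ∧
      y ∈ (Ideal.span (T : Set B)).map (algebraMap B C) ⊔ (Ideal.span (U : Set A)).map (algebraMap A C) := by
    intro y hy
    obtain ⟨p, hp, q, hq, rfl⟩ := Submodule.mem_sup.1 (h₀.symm ▸ Ideal.mem_sup_left hy)
    obtain ⟨T, hT, hpT⟩ := exists_fg_le_of_le_map _ _ hp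
    obtain ⟨U, hU, hqU⟩ := exists_fg_le_of_le_map _ _ hq
    exact ⟨T, U, hT, hU, Submodule.add_mem_sup hpT hqU⟩
  choose! T U hT hU hTU using h1
  obtain ⟨G, rfl⟩ := hfg
  let S : Finset B := G.biUnion T
  have h2 : ∀ e ∈ S, ∃ V : Finset A, (V : Set A) ⊆ N ∧
      algebraMap B C e ∈ Submodule.span C (G : Set C) ⊔ (Ideal.span (V : Set A)).map (algebraMap A C) := by
    intro e he
    obtain ⟨y, hy, hey⟩ := Finset.mem_biUnion.1 he
    have : algebraMap B C e ∈ Submodule.span C (G : Set C) ⊔ N.map (algebraMap A C) :=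
      h₀ ▸ Ideal.mem_sup_left (Ideal.mem_map_of_mem _ (hT y (Submodule.subset_span hy) hey))
    obtain ⟨p, hp, q, hq, hpq⟩ := Submodule.mem_sup.1 this
    obtain ⟨V, hV, hqV⟩ := exists_fg_le_of_le_map _ _ hq
    exact ⟨V, hV, hpq ▸ Submodule.add_mem_sup hp hqV⟩
  choose! V hV hSV using h2
  let W := Submodule.span C (G : Set C)
  let J : Ideal A := Ideal.span ((G.biUnion U ∪ S.biUnion V : Finset A) : Set A)
  obtain ⟨n, hn⟩ : IsNilpotent J := by
    refine (Ideal.FG.isNilpotent_iff_le_nilradical ⟨_, rfl⟩).2 (le_trans ?_ hN)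
    rw [Ideal.span_le]
    intro x hx
    rcases Finset.mem_union.1 (Finset.mem_coe.1 hx) with h | h
    · obtain ⟨y, hy, hxy⟩ := Finset.mem_biUnion.1 h
      exact hU y (Submodule.subset_span hy) hxy
    · obtain ⟨y, hy, hxy⟩ := Finset.mem_biUnion.1 h
      exact hV y hy hxy
  let Ia : Ideal B := Ideal.span (S : Set B) ⊔ J.map (algebraMap A B)
  have hJ : (J.map (algebraMap A B)).map (algebraMap B C) = J.map (algebraMap A C) := by
    rw [Ideal.map_map, ← IsScalarTower.algebraMap_eq]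
  have hW : W ≤ Ia.map (algebraMap B C) := by
    rw [Ideal.map_sup, hJ]
    refine Submodule.span_le.2 fun y hy => ?_
    refine SetLike.le_def.1 (sup_le_sup (Ideal.map_mono (f := algebraMap B C) (Ideal.span_mono ?_))
      (Ideal.map_mono (f := algebraMap A C) (Ideal.span_mono ?_))) (hTU y (Submodule.subset_span hy))
    · exact Finset.coe_subset.2 (Finset.subset_biUnion_of_mem T hy)
    · exact Finset.coe_subset.2 ((Finset.subset_biUnion_of_mem U hy).trans Finset.subset_union_left)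
  have hIa : Ia.map (algebraMap B C) ≤ W ⊔ J.map (algebraMap A C) := by
    rw [Ideal.map_sup, hJ]
    refine sup_le ?_ le_sup_right
    rw [Ideal.map_span, Ideal.span_le]
    rintro _ ⟨e, he, rfl⟩
    exact SetLike.le_def.1 (sup_le_sup_left (Ideal.map_mono (f := algebraMap A C) (Ideal.span_mono (Finset.coe_subset.2
      ((Finset.subset_biUnion_of_mem V he).trans Finset.subset_union_right)))) (Submodule.span C (G : Set C))) (hSV e he)
  have hlift : ∀ k, ∀ e ∈ S, ∃ e', e' - e ∈ J.map (algebraMap A B) ∧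
      algebraMap B C e' ∈ W ⊔ (J ^ (k + 1)).map (algebraMap A C) := by
    intro k
    induction k with
    | zero =>
      intro e he
      refine ⟨e, by simp, ?_⟩
      rw [zero_add, pow_one]
      exact hIa (Ideal.mem_map_of_mem _ (Ideal.mem_sup_left (Ideal.subset_span he)))
    | succ k ih =>
      intro e he
      obtain ⟨e', he', hWe'⟩ := ih e he
      obtain ⟨b, hb, hb'⟩ := step d₁ d₂ W W2 glue h₁ h₂ J (J ^ (k + 1)) Ia hIa hW hWe'
      refine ⟨e' - b, ?_, by rwa [pow_succ _ (k + 1)]⟩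
      rw [sub_right_comm]
      exact sub_mem he' (Ideal.map_mono (Ideal.pow_le_self (by omega)) hb)
  choose! f hf hfW using hlift n
  refine ⟨Ideal.span ((S.image f : Finset B) : Set B), ⟨_, rfl⟩, ?_⟩
  let I : Ideal B := Ideal.span ((S.image f : Finset B) : Set B)
  have hIW : I.map (algebraMap B C) ≤ W := by
    rw [Ideal.map_span, Ideal.span_le]
    rintro _ ⟨_, he, rfl⟩
    obtain ⟨e, he', rfl⟩ := Finset.mem_image.1 he
    have := hfW e he'
    rwa [pow_succ, hn, zero_mul, Ideal.zero_eq_bot, Ideal.map_bot, sup_bot_eq] at this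
  have hWI : W ≤ I.map (algebraMap B C) ⊔ J.map (algebraMap A C) := by
    refine hW.trans ?_
    rw [Ideal.map_sup, hJ]
    refine sup_le ?_ le_sup_right
    rw [Ideal.map_span, Ideal.span_le]
    rintro _ ⟨e, he, rfl⟩
    rw [show algebraMap B C e = algebraMap B C (f e) - algebraMap B C (f e - e) by rw [map_sub]; ring]
    refine sub_mem (Ideal.mem_sup_left (Ideal.mem_map_of_mem _ (Ideal.subset_span ?_))) (Ideal.mem_sup_right ?_)
    · exact Finset.mem_coe.2 (Finset.mem_image.2 ⟨e, he, rfl⟩)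
    · rw [← hJ]
      exact Ideal.mem_map_of_mem _ (hf e he)
  have hJW : W ≤ I.map (algebraMap B C) ⊔ J.map (algebraMap A C) * W := by
    intro y hy
    obtain ⟨p, hp, q, hq, rfl⟩ := Submodule.mem_sup.1 (hWI hy)
    exact Submodule.add_mem_sup hp (inf_map_le J W ⟨by simpa using sub_mem hy (hIW hp), hq⟩)
  have hpow : ∀ k, W ≤ I.map (algebraMap B C) ⊔ (J ^ k).map (algebraMap A C) * W := by
    intro k
    induction k with
    | zero => simp [Ideal.map_top, Ideal.one_eq_top]
    | succ k ih =>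
      rw [pow_succ, Ideal.map_mul]
      exact le_sup_mul_step ih hJW
  refine le_antisymm hIW ((hpow n).trans ?_)
  rw [hn, Ideal.zero_eq_bot, Ideal.map_bot, Ideal.bot_mul, sup_bot_eq]

end core

end Groth.Agent.FamCyc14
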