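import Groth.Agent.Lib.RigidRel.H0
import Mathlib.Algebra.TrivSqZeroExt.Basic
import Mathlib.AlgebraicGeometry.Pullbacks
import Mathlib.RingTheory.TensorProduct.Maps

/-!
# Gluing with coefficients in a module, from universal triviality of the global functions
-/

set_option autoImplicit false
set_option backward.isDefEq.respectTransparency false

universe u

open CategoryTheory CategoryTheory.Limits AlgebraicGeometry TensorProduct

namespace Groth.Agent.FamCyc14

variable {B C C2 : Type u} [CommRing B] [CommRing C] [CommRing C2] [Algebra B C] [Algebra B C2]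

theorem appTop_SpecMap_inv {R S : CommRingCat.{u}} (f : R ⟶ S) (x : R) :
    (Spec.map f).appTop ((Scheme.ΓSpecIso R).inv x) = (Scheme.ΓSpecIso S).inv (f x) :=
  (ConcreteCategory.congr_hom (Scheme.ΓSpecIso_inv_naturality f) x).symm

theorem appTop_SpecMap_hom {R S : CommRingCat.{u}} (f : R ⟶ S) (y : Γ(Spec R, ⊤)) :
    (Scheme.ΓSpecIso S).hom ((Spec.map f).appTop y) = f ((Scheme.ΓSpecIso R).hom y) :=
  ConcreteCategory.congr_hom (Scheme.ΓSpecIso_naturality f) y

/-- Coefficients in an algebra. -/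
theorem glue_algebra (d₁ d₂ : C →ₐ[B] C2) {P : Scheme.{u}} (qU : P ⟶ Spec (CommRingCat.of B))
    (h0 : ∀ (T : Scheme.{u}) (τ : T ⟶ Spec (CommRingCat.of B)), Function.Surjective (pullback.snd qU τ).appTop)
    (π : Spec (CommRingCat.of C) ⟶ P) [Flat π] [Surjective π] [QuasiCompact π]
    (hπ : π ≫ qU = Spec.map (CommRingCat.ofHom (algebraMap B C)))
    (hpb : IsPullback (Spec.map (CommRingCat.ofHom d₁.toRingHom)) (Spec.map (CommRingCat.ofHom d₂.toRingHom)) π π)
    (D : Type u) [CommRing D] [Algebra B D] (φ : C ⊗[B] D)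
    (hφ : Algebra.TensorProduct.map d₁ (AlgHom.id B D) φ = Algebra.TensorProduct.map d₂ (AlgHom.id B D) φ) :
    ∃ x : D, φ = 1 ⊗ₜ[B] x := by
  let bD : CommRingCat.of B ⟶ CommRingCat.of D := CommRingCat.ofHom (algebraMap B D)
  let E := C ⊗[B] D
  let u : CommRingCat.of C ⟶ CommRingCat.of E :=
    CommRingCat.ofHom (Algebra.TensorProduct.includeLeftRingHom)
  let a : CommRingCat.of D ⟶ CommRingCat.of E :=
    CommRingCat.ofHom (Algebra.TensorProduct.includeRight : D →ₐ[B] E).toRingHom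
  have hE : IsPullback (Spec.map u) (Spec.map a) (Spec.map (CommRingCat.ofHom (algebraMap B C))) (Spec.map bD) :=
    isPullback_SpecMap_of_isPushout _ _ _ _ (CommRingCat.isPushout_tensorProduct B C D)
  let E2 := C2 ⊗[B] D
  let u2 : CommRingCat.of C2 ⟶ CommRingCat.of E2 :=
    CommRingCat.ofHom (Algebra.TensorProduct.includeLeftRingHom)
  let a2 : CommRingCat.of D ⟶ CommRingCat.of E2 :=
    CommRingCat.ofHom (Algebra.TensorProduct.includeRight : D →ₐ[B] E2).toRingHom
  have hE2 : IsPullback (Spec.map u2) (Spec.map a2) (Spec.map (CommRingCat.ofHom (algebraMap B C2)))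
      (Spec.map bD) :=
    isPullback_SpecMap_of_isPushout _ _ _ _ (CommRingCat.isPushout_tensorProduct B C2 D)
  let fD := pullback.fst qU (Spec.map bD)
  have hw : (Spec.map u ≫ π) ≫ qU = Spec.map a ≫ Spec.map bD := by rw [Category.assoc, hπ]; exact hE.w
  let πD : Spec (CommRingCat.of E) ⟶ pullback qU (Spec.map bD) := pullback.lift _ _ hw
  have hπD : IsPullback (Spec.map u) πD π fD := by
    refine IsPullback.of_bot ?_ (pullback.lift_fst _ _ _).symm (IsPullback.of_hasPullback qU (Spec.map bD))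
    rw [hπ, pullback.lift_snd]
    exact hE
  haveI : Flat πD := MorphismProperty.of_isPullback hπD inferInstance
  haveI : Surjective πD := MorphismProperty.of_isPullback hπD inferInstance
  haveI : QuasiCompact πD := MorphismProperty.of_isPullback hπD inferInstance
  let k₁ := pullback.fst πD πD
  let k₂ := pullback.snd πD πD
  have hc : (k₁ ≫ Spec.map u) ≫ π = (k₂ ≫ Spec.map u) ≫ π := by
    simp only [Category.assoc, hπD.w]
    rw [← Category.assoc, ← Category.assoc, pullback.condition]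
  let l := hpb.lift _ _ hc
  have hb : ∀ e : C →ₐ[B] C2, Spec.map (CommRingCat.ofHom e.toRingHom) ≫
      Spec.map (CommRingCat.ofHom (algebraMap B C)) = Spec.map (CommRingCat.ofHom (algebraMap B C2)) := by
    intro e
    rw [← Spec.map_comp, ← CommRingCat.ofHom_comp]
    exact congrArg (fun ψ => Spec.map (CommRingCat.ofHom ψ)) e.comp_algebraMap
  have hl : l ≫ Spec.map (CommRingCat.ofHom (algebraMap B C2)) = (k₁ ≫ Spec.map a) ≫ Spec.map bD := by
    rw [← hb d₁, hpb.lift_fst_assoc, Category.assoc, Category.assoc, hE.w]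
  let k := hE2.lift _ _ hl
  have hmapu : ∀ e : C →ₐ[B] C2, Spec.map (CommRingCat.ofHom (Algebra.TensorProduct.map e (AlgHom.id B D)).toRingHom) ≫
      Spec.map u = Spec.map u2 ≫ Spec.map (CommRingCat.ofHom e.toRingHom) := by
    intro e
    rw [← Spec.map_comp, ← Spec.map_comp]
    congr 1
  have hmapa : ∀ e : C →ₐ[B] C2, Spec.map (CommRingCat.ofHom (Algebra.TensorProduct.map e (AlgHom.id B D)).toRingHom) ≫
      Spec.map a = Spec.map a2 := by
    intro e
    rw [← Spec.map_comp]
    congr 1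
    ext x
    show Algebra.TensorProduct.map e (AlgHom.id B D) (1 ⊗ₜ x) = 1 ⊗ₜ x
    simp
  have hk₁ : k ≫ Spec.map (CommRingCat.ofHom (Algebra.TensorProduct.map d₁ (AlgHom.id B D)).toRingHom) = k₁ := by
    apply hE.hom_ext
    · rw [Category.assoc, hmapu, hE2.lift_fst_assoc, hpb.lift_fst]
    · rw [Category.assoc, hmapa, hE2.lift_snd]
  have hk₂ : k ≫ Spec.map (CommRingCat.ofHom (Algebra.TensorProduct.map d₂ (AlgHom.id B D)).toRingHom) = k₂ := by
    apply hE.hom_ext
    · rw [Category.assoc, hmapu, hE2.lift_fst_assoc, hpb.lift_snd]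
    · rw [Category.assoc, hmapa, hE2.lift_snd, show k₁ ≫ Spec.map a = k₁ ≫ πD ≫ pullback.snd _ _ by
        rw [pullback.lift_snd], pullback.condition_assoc, pullback.lift_snd]
  let φ' := (Scheme.ΓSpecIso (CommRingCat.of E)).inv φ
  have happ : ∀ (m : pullback πD πD ⟶ Spec (CommRingCat.of E)) (e : C →ₐ[B] C2)
      (_ : k ≫ Spec.map (CommRingCat.ofHom (Algebra.TensorProduct.map e (AlgHom.id B D)).toRingHom) = m),
      m.appTop φ' = k.appTop ((Scheme.ΓSpecIso (CommRingCat.of E2)).inv (Algebra.TensorProduct.map e (AlgHom.id B D) φ)) := by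
    intro m e hm
    rw [← hm, Scheme.Hom.comp_appTop]
    rw [CommRingCat.comp_apply, appTop_SpecMap_inv]
    rfl
  obtain ⟨s, hs⟩ := RigidRel.exists_appTop_eq πD φ' (by
    rw [happ _ _ hk₁, happ _ _ hk₂, hφ])
  obtain ⟨y, rfl⟩ := h0 _ (Spec.map bD) s
  refine ⟨(Scheme.ΓSpecIso (CommRingCat.of D)).hom y, ?_⟩
  have h1 : (πD ≫ pullback.snd qU (Spec.map bD)).appTop y = φ' := hs
  rw [show πD ≫ pullback.snd qU (Spec.map bD) = Spec.map a from pullback.lift_snd _ _ _] at h1
  have h2 := appTop_SpecMap_hom a y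
  have h3 : (Scheme.ΓSpecIso (CommRingCat.of E)).hom φ' = φ :=
    ConcreteCategory.congr_hom (Scheme.ΓSpecIso (CommRingCat.of E)).inv_hom_id φ
  rw [← h3, ← h1]
  exact h2

/-- Coefficients in a module. -/
theorem glue_module (d₁ d₂ : C →ₐ[B] C2) {P : Scheme.{u}} (qU : P ⟶ Spec (CommRingCat.of B))
    (h0 : ∀ (T : Scheme.{u}) (τ : T ⟶ Spec (CommRingCat.of B)), Function.Surjective (pullback.snd qU τ).appTop)
    (π : Spec (CommRingCat.of C) ⟶ P) [Flat π] [Surjective π] [QuasiCompact π]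
    (hπ : π ≫ qU = Spec.map (CommRingCat.ofHom (algebraMap B C)))
    (hpb : IsPullback (Spec.map (CommRingCat.ofHom d₁.toRingHom)) (Spec.map (CommRingCat.ofHom d₂.toRingHom)) π π)
    (M : Type u) [AddCommGroup M] [Module B M] (t : C ⊗[B] M)
    (ht : d₁.toLinearMap.rTensor M t = d₂.toLinearMap.rTensor M t) : ∃ m : M, t = 1 ⊗ₜ[B] m := by
  letI : Module Bᵐᵒᵖ M := Module.compHom M ((RingHom.id B).fromOpposite mul_comm)
  haveI : IsCentralScalar B M := ⟨fun r m => rfl⟩
  let ι : M →ₗ[B] TrivSqZeroExt B M := TrivSqZeroExt.inrHom B M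
  have hnat : ∀ (e : C →ₐ[B] C2) (v : C ⊗[B] M),
      Algebra.TensorProduct.map e (AlgHom.id B (TrivSqZeroExt B M)) (ι.lTensor C v) =
        ι.lTensor C2 (e.toLinearMap.rTensor M v) := by
    intro e v
    induction v with
    | zero => simp
    | tmul c m => rfl
    | add x y hx hy => simp [hx, hy]
  obtain ⟨x, hx⟩ := glue_algebra d₁ d₂ qU h0 π hπ hpb (TrivSqZeroExt B M) (ι.lTensor C t)
    (by rw [hnat, hnat, ht])
  refine ⟨x.snd, ?_⟩
  have h1 := congrArg ((TrivSqZeroExt.sndHom B M : TrivSqZeroExt B M →ₗ[B] M).lTensor C) hx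
  rw [← LinearMap.comp_apply, ← LinearMap.lTensor_comp] at h1
  rw [show (TrivSqZeroExt.sndHom B M : TrivSqZeroExt B M →ₗ[B] M) ∘ₗ ι = LinearMap.id from
    LinearMap.ext fun m => TrivSqZeroExt.snd_inr B m, LinearMap.lTensor_id] at h1
  exact h1

end Groth.Agent.FamCyc14
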