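import Groth.Agent.Lib.FamCyc14.Core
import Groth.Agent.Lib.FamCyc14.Glue
import Groth.Agent.Lib.FormalH7.Ideal
import Groth.Agent.Lib.IdealDesc12.Sheaf
import Groth.Agent.Lib.GrpQuot.SubDescFam
import Groth.Agent.Lib.AbDual21.Phi
import Groth.Agent.Lib.SchBasic.Basic

/-!
# Descending flat closed subschemes along smooth proper morphisms with geometrically connected fibres
-/

set_option autoImplicit false
set_option linter.style.haveILetI false
set_option backward.isDefEq.respectTransparency false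

universe u

open CategoryTheory CategoryTheory.Limits AlgebraicGeometry
open AlgebraicGeometry.Scheme.IdealSheafData

namespace Groth.Agent.FamCyc14

/-- The ideal of an ideal sheaf on an affine spectrum. -/
noncomputable def idl {R : CommRingCat.{u}} (J : (Spec R).IdealSheafData) : Ideal R :=
  (J.ideal ⟨⊤, isAffineOpen_top _⟩).map (Scheme.ΓSpecIso R).hom.hom

theorem idl_comap {R T : CommRingCat.{u}} (f : R ⟶ T) (J : (Spec R).IdealSheafData) :
    idl (J.comap (Spec.map f)) = (idl J).map f.hom := by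
  rw [idl, idl, EffCartier.comap_ideal_top, Ideal.map_map, Ideal.map_map, ← CommRingCat.hom_comp,
    ← CommRingCat.hom_comp, Scheme.ΓSpecIso_naturality]

theorem idl_idealSpec (R : Type u) [CommRing R] (I : Ideal R) :
    idl (R := CommRingCat.of R) (FSch.idealSpec R I) = I := by
  rw [idl, FormalH7.idealSpec_ideal_top', Ideal.map_map, ← CommRingCat.hom_comp, Iso.inv_hom_id,
    CommRingCat.hom_id, Ideal.map_id]

theorem idl_injective {R : CommRingCat.{u}} : Function.Injective (idl (R := R)) := by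
  intro I J h
  refine ext_of_isAffine ?_
  have h2 := congrArg (Ideal.map (Scheme.ΓSpecIso R).inv.hom) h
  simpa only [idl, Ideal.map_map, ← CommRingCat.hom_comp, Iso.hom_inv_id, CommRingCat.hom_id, Ideal.map_id] using h2

theorem idealSpec_idl {R : CommRingCat.{u}} (J : (Spec R).IdealSheafData) : FSch.idealSpec R (idl J) = J :=
  idl_injective (idl_idealSpec R (idl J))

/-- The closed immersion `Spec (R / I) ⟶ Spec R` factors isomorphically through the subscheme. -/
theorem exists_iso (R : CommRingCat.{u}) (I : Ideal R) (J : (Spec R).IdealSheafData) (hJ : idl J = I) :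
    ∃ e : Spec (CommRingCat.of (R ⧸ I)) ⟶ J.subscheme, IsIso e ∧
      e ≫ J.subschemeι = Spec.map (CommRingCat.ofHom (Ideal.Quotient.mk I)) := by
  have h : (Spec.map (CommRingCat.ofHom (Ideal.Quotient.mk I)) : _ ⟶ Spec R).ker = J :=
    idl_injective ((idl_idealSpec R I).trans hJ.symm)
  haveI : IsClosedImmersion (Spec.map (CommRingCat.ofHom (Ideal.Quotient.mk I)) : _ ⟶ Spec R) :=
    IsClosedImmersion.spec_of_surjective _ Ideal.Quotient.mk_surjective
  subst h
  exact ⟨(Spec.map (CommRingCat.ofHom (Ideal.Quotient.mk I)) : _ ⟶ Spec R).toImage, inferInstance,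
    Scheme.Hom.toImage_imageι _⟩

theorem flat_of_comp_mono {X Y Z : Scheme.{u}} (g : X ⟶ Y) (v : Y ⟶ Z) [Mono v] [Flat (g ≫ v)] : Flat g := by
  have sq : IsPullback (𝟙 X) g (g ≫ v) v :=
    IsPullback.of_isLimit' ⟨Category.id_comp _⟩
      (PullbackCone.IsLimit.mk (fst := 𝟙 X) (snd := g) (Category.id_comp _)
        (fun s => s.fst)
        (fun s => Category.comp_id _)
        (fun s => by rw [← cancel_mono v, Category.assoc]; exact s.condition)
        (fun s m h1 _ => by simpa using h1))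
  exact MorphismProperty.of_isPullback sq inferInstance

theorem flat_quotient {A R : CommRingCat.{u}} {S : Scheme.{u}} (ψ : A ⟶ R) (v : Spec A ⟶ S) [Mono v]
    (J : (Spec R).IdealSheafData) [Flat (J.subschemeι ≫ Spec.map ψ ≫ v)] :
    ((Ideal.Quotient.mk (idl J)).comp ψ.hom).Flat := by
  obtain ⟨e, he, h⟩ := exists_iso R (idl J) J rfl
  haveI : Flat (Spec.map (ψ ≫ CommRingCat.ofHom (Ideal.Quotient.mk (idl J))) ≫ v) := by
    rw [Spec.map_comp, ← h, Category.assoc, Category.assoc]
    infer_instance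
  exact Flat.SpecMap_iff.1
    (flat_of_comp_mono (Spec.map (ψ ≫ CommRingCat.ofHom (Ideal.Quotient.mk (idl J)))) v)

theorem fg_idl {A R : CommRingCat.{u}} {S : Scheme.{u}} (ψ : A ⟶ R) (v : Spec A ⟶ S) [IsOpenImmersion v]
    (J : (Spec R).IdealSheafData) [LocallyOfFinitePresentation (J.subschemeι ≫ Spec.map ψ ≫ v)]
    [LocallyOfFinitePresentation (Spec.map ψ ≫ v)] : (idl J).FG := by
  obtain ⟨e, he, h⟩ := exists_iso R (idl J) J rfl
  haveI : LocallyOfFinitePresentation (Spec.map (ψ ≫ CommRingCat.ofHom (Ideal.Quotient.mk (idl J))) ≫ v) := by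
    rw [Spec.map_comp, ← h, Category.assoc, Category.assoc]
    infer_instance
  have h1 := (LocallyOfFinitePresentation.SpecMap_iff _).1
    (SchBasic.locallyOfFinitePresentation_of_comp
      (Spec.map (ψ ≫ CommRingCat.ofHom (Ideal.Quotient.mk (idl J)))) v)
  have h2 := (LocallyOfFinitePresentation.SpecMap_iff _).1
    (SchBasic.locallyOfFinitePresentation_of_comp (Spec.map ψ) v)
  algebraize [ψ.hom, (Ideal.Quotient.mk (idl J)).comp ψ.hom]
  haveI : Algebra.FinitePresentation A R := h2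
  haveI : Algebra.FinitePresentation A (R ⧸ idl J) := h1
  let f : R →ₐ[A] R ⧸ idl J := { Ideal.Quotient.mk (idl J) with commutes' := fun _ => rfl }
  have := Algebra.FinitePresentation.ker_fG_of_surjective f Ideal.Quotient.mk_surjective
  rwa [show RingHom.ker f.toRingHom = idl J from Ideal.mk_ker] at this

theorem comap_subschemeι_comp {X Y Z : Scheme.{u}} (W : Y.IdealSheafData) (f : X ⟶ Y) (g : Y ⟶ Z) :
    ∃ e : (W.comap f).subscheme ≅ pullback f W.subschemeι,
      (W.comap f).subschemeι ≫ f ≫ g = e.hom ≫ pullback.snd f W.subschemeι ≫ W.subschemeι ≫ g :=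
  ⟨W.comapIso f, by
    rw [← W.comapIso_hom_fst f, Category.assoc, pullback.condition_assoc]⟩

/-- A morphism from a reduced scheme kills the nilradical. -/
theorem nilradical_le_ker {T S : Scheme.{u}} [IsReduced T] (f : T ⟶ S) : S.nilradical ≤ f.ker := by
  refine (le_ofIdeals_iff).2 fun U x hx => ?_
  have hx' : IsNilpotent x := hx
  exact (hx'.map (f.app U.1).hom).eq_zero

section local_step

variable {S X P : Scheme.{u}} (p : X ⟶ S) (q : P ⟶ X) [IsProper q] [Smooth q] [GeometricallyConnected q]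
  [LocallyOfFinitePresentation p] (W : P.IdealSheafData) [Flat (W.subschemeι ≫ q ≫ p)]
  [LocallyOfFinitePresentation (W.subschemeι ≫ q ≫ p)]
  (Z₀ : (pullback p S.nilradical.subschemeι).IdealSheafData)
  (m : pullback (q ≫ p) S.nilradical.subschemeι ⟶ pullback p S.nilradical.subschemeι)
  (hm₁ : m ≫ pullback.fst p S.nilradical.subschemeι = pullback.fst (q ≫ p) S.nilradical.subschemeι ≫ q)
  (hm₂ : m ≫ pullback.snd p S.nilradical.subschemeι = pullback.snd (q ≫ p) S.nilradical.subschemeι)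
  (hW : W.comap (pullback.fst (q ≫ p) S.nilradical.subschemeι) = Z₀.comap m)

set_option maxHeartbeats 1000000 in
include hm₁ hm₂ hW in
theorem exists_local_ideal {A B : CommRingCat.{u}} (v : Spec A ⟶ S) [IsOpenImmersion v] (j : Spec B ⟶ X)
    [IsOpenImmersion j] (φ : A ⟶ B) (hφ : j ≫ p = Spec.map φ ≫ v) :
    ∃ I : Ideal B, I.FG ∧
      (FSch.idealSpec B I).comap (pullback.snd q j) = W.comap (pullback.fst q j) := by
  let qU := pullback.snd q j
  haveI : CompactSpace ↥(pullback q j) := QuasiCompact.compactSpace_of_compactSpace qU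
  let 𝒰 := (pullback q j).affineCover.finiteSubcover
  let U : Scheme.{u} := ∐ (fun i : 𝒰.I₀ ↦ 𝒰.X i)
  let π₀ : U ⟶ pullback q j := Sigma.desc (fun i ↦ 𝒰.f i)
  haveI : Surjective π₀ := Surjective.sigmaDesc_of_union_range_eq_univ 𝒰.iUnion_range
  haveI : Flat π₀ := IsZariskiLocalAtSource.sigmaDesc (fun _ ↦ inferInstance)
  haveI : LocallyOfFinitePresentation π₀ := IsZariskiLocalAtSource.sigmaDesc (fun _ ↦ inferInstance)
  let C : CommRingCat.{u} := Γ(U, ⊤)
  let π : Spec C ⟶ pullback q j := U.isoSpec.inv ≫ π₀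
  haveI : QuasiCompact π := QuasiCompact.of_comp π qU
  let d : B ⟶ C := Spec.preimage (π ≫ qU)
  have hd : Spec.map d = π ≫ qU := Spec.map_preimage _
  let P₂ := pullback π π
  haveI : IsAffine P₂ := isAffine_of_isAffineHom (pullback.mapDesc π π qU)
  let C2 : CommRingCat.{u} := Γ(P₂, ⊤)
  let d₁ : C ⟶ C2 := Spec.preimage (P₂.isoSpec.inv ≫ pullback.fst π π)
  let d₂ : C ⟶ C2 := Spec.preimage (P₂.isoSpec.inv ≫ pullback.snd π π)
  have hd₁ : Spec.map d₁ = P₂.isoSpec.inv ≫ pullback.fst π π := Spec.map_preimage _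
  have hd₂ : Spec.map d₂ = P₂.isoSpec.inv ≫ pullback.snd π π := Spec.map_preimage _
  have hpb : IsPullback (Spec.map d₁) (Spec.map d₂) π π :=
    (IsPullback.of_hasPullback π π).of_iso P₂.isoSpec (Iso.refl _) (Iso.refl _) (Iso.refl _)
      (by simp [hd₁, P₂]) (by simp [hd₂, P₂]) (by simp) (by simp)
  have hdd : d ≫ d₁ = d ≫ d₂ := Spec.map_injective (by
    rw [Spec.map_comp, Spec.map_comp, hd]
    simp only [← Category.assoc, hpb.w])
  letI : Algebra A B := φ.hom.toAlgebra
  letI : Algebra A C := (φ ≫ d).hom.toAlgebra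
  letI : Algebra B C := d.hom.toAlgebra
  letI : Algebra B C2 := (d ≫ d₁).hom.toAlgebra
  letI : Algebra A C2 := (φ ≫ d ≫ d₁).hom.toAlgebra
  haveI : IsScalarTower A B C := .of_algebraMap_eq' rfl
  haveI : IsScalarTower A B C2 := .of_algebraMap_eq' rfl
  let D₁ : C →ₐ[B] C2 := { d₁.hom with commutes' := fun _ => rfl }
  let D₂ : C →ₐ[B] C2 :=
    { d₂.hom with commutes' := fun r => (ConcreteCategory.congr_hom hdd r).symm }
  haveI := AbRigid.geometricallyReduced_of_smooth qU
  have h0 : ∀ (T : Scheme.{u}) (τ : T ⟶ Spec B), Function.Surjective (pullback.snd qU τ).appTop :=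
    fun T τ => (AbDual21.bijective_appTop (pullback.snd qU τ)).2
  let π₁ : Spec C ⟶ P := π ≫ pullback.fst q j
  have hπ₁ : π₁ ≫ q ≫ p = Spec.map (φ ≫ d) ≫ v := by
    simp only [π₁, Spec.map_comp, Category.assoc, ← hφ, hd, qU, pullback.condition_assoc]
  let Wc := idl (W.comap π₁)
  let W2 := idl ((W.comap π₁).comap (Spec.map d₁))
  have h₁ : Wc.map D₁ = W2 := (idl_comap d₁ _).symm
  have h₂ : Wc.map D₂ = W2 := (idl_comap d₂ _).symm.trans (congrArg idl (by
    rw [← comap_comp, ← comap_comp]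
    show W.comap (Spec.map d₂ ≫ π ≫ pullback.fst q j) = W.comap (Spec.map d₁ ≫ π ≫ pullback.fst q j)
    rw [← hpb.w_assoc]))
  haveI hflC : Flat (Spec.map d₁) := MorphismProperty.of_isPullback hpb.flip inferInstance
  haveI : LocallyOfFinitePresentation π := inferInstanceAs (LocallyOfFinitePresentation (U.isoSpec.inv ≫ π₀))
  haveI : Module.Flat A (C ⧸ Wc) := by
    haveI : Flat ((W.comap π₁).subschemeι ≫ Spec.map (φ ≫ d) ≫ v) := by
      obtain ⟨e, he⟩ := comap_subschemeι_comp W π₁ (q ≫ p)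
      rw [← hπ₁, he]
      infer_instance
    exact flat_quotient (φ ≫ d) v (W.comap π₁)
  haveI : Module.Flat A (C2 ⧸ W2) := by
    haveI : Flat (((W.comap π₁).comap (Spec.map d₁)).subschemeι ≫ Spec.map (φ ≫ d ≫ d₁) ≫ v) := by
      obtain ⟨e, he⟩ := comap_subschemeι_comp W (Spec.map d₁ ≫ π₁) (q ≫ p)
      have he' : Spec.map (φ ≫ d ≫ d₁) ≫ v = (Spec.map d₁ ≫ π₁) ≫ q ≫ p := by
        rw [← Category.assoc φ, Spec.map_comp (φ ≫ d) d₁, Category.assoc, Category.assoc, hπ₁]
      rw [← comap_comp, he', he]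
      infer_instance
    exact flat_quotient (φ ≫ d ≫ d₁) v ((W.comap π₁).comap (Spec.map d₁))
  have hfg : Wc.FG := by
    haveI : LocallyOfFinitePresentation ((W.comap π₁).subschemeι ≫ Spec.map (φ ≫ d) ≫ v) := by
      obtain ⟨e, he⟩ := comap_subschemeι_comp W π₁ (q ≫ p)
      rw [← hπ₁, he]
      infer_instance
    haveI : LocallyOfFinitePresentation (Spec.map (φ ≫ d) ≫ v) := by
      rw [← hπ₁]
      infer_instance
    exact fg_idl (φ ≫ d) v (W.comap π₁)
  let N := nilradical A
  let mB : B ⟶ CommRingCat.of (B ⧸ N.map φ.hom) := CommRingCat.ofHom (Ideal.Quotient.mk _)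
  let mC : C ⟶ CommRingCat.of (C ⧸ N.map (φ ≫ d).hom) := CommRingCat.ofHom (Ideal.Quotient.mk _)
  let φ₀ : CommRingCat.of (A ⧸ N) ⟶ CommRingCat.of (B ⧸ N.map φ.hom) :=
    CommRingCat.ofHom (Ideal.quotientMap _ φ.hom Ideal.le_comap_map)
  let d₀ : CommRingCat.of (B ⧸ N.map φ.hom) ⟶ CommRingCat.of (C ⧸ N.map (φ ≫ d).hom) :=
    CommRingCat.ofHom (Ideal.quotientMap _ d.hom (Ideal.map_le_iff_le_comap.1
      (by rw [Ideal.map_map, ← CommRingCat.hom_comp])))
  haveI : _root_.IsReduced (A ⧸ N) :=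
    (Ideal.isRadical_iff_quotient_reduced N).1 (Ideal.radical_isRadical _)
  let r : Spec (CommRingCat.of (A ⧸ N)) ⟶ S := Spec.map (CommRingCat.ofHom (Ideal.Quotient.mk N)) ≫ v
  let l : Spec (CommRingCat.of (A ⧸ N)) ⟶ S.nilradical.subscheme :=
    IsClosedImmersion.lift S.nilradical.subschemeι r (by rw [ker_subschemeι]; exact nilradical_le_ker r)
  have hl : l ≫ S.nilradical.subschemeι = r := IsClosedImmersion.lift_fac _ _ _
  let i₀ : Spec (CommRingCat.of (B ⧸ N.map φ.hom)) ⟶ pullback p S.nilradical.subschemeι :=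
    pullback.lift (Spec.map mB ≫ j) (Spec.map φ₀ ≫ l) (by
      rw [Category.assoc, Category.assoc, hl, hφ, ← Category.assoc, ← Category.assoc, ← Spec.map_comp,
        ← Spec.map_comp]
      rfl)
  let i₁ : Spec (CommRingCat.of (C ⧸ N.map (φ ≫ d).hom)) ⟶ pullback (q ≫ p) S.nilradical.subschemeι :=
    pullback.lift (Spec.map mC ≫ π₁) (Spec.map d₀ ≫ Spec.map φ₀ ≫ l) (by
      rw [Category.assoc, hπ₁, Category.assoc, Category.assoc, hl, ← Category.assoc, ← Category.assoc,
        ← Category.assoc, ← Spec.map_comp, ← Spec.map_comp, ← Spec.map_comp]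
      rfl)
  have hi : i₁ ≫ m = Spec.map d₀ ≫ i₀ := by
    apply pullback.hom_ext
    · rw [Category.assoc, Category.assoc, hm₁, pullback.lift_fst_assoc, pullback.lift_fst, Category.assoc]
      simp only [π₁, Category.assoc, pullback.condition]
      rw [← Category.assoc π, ← hd, ← Category.assoc, ← Category.assoc (Spec.map d₀), ← Spec.map_comp,
        ← Spec.map_comp]
      rfl
    · rw [Category.assoc, Category.assoc, hm₂, pullback.lift_snd, pullback.lift_snd]
  let I₀ : Ideal B := (idl (Z₀.comap i₀)).comap mB.hom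
  have hI₀ : I₀.map (algebraMap B C) ⊔ N.map (algebraMap A C) = Wc ⊔ N.map (algebraMap A C) := by
    have h1 := congrArg (fun J => idl (J.comap i₁)) hW
    replace h1 : idl ((W.comap π₁).comap (Spec.map mC)) = idl ((Z₀.comap i₀).comap (Spec.map d₀)) := by
      rw [← comap_comp, ← comap_comp, show Spec.map mC ≫ π₁ = i₁ ≫ pullback.fst (q ≫ p) S.nilradical.subschemeι from
        (pullback.lift_fst _ _ _).symm, ← hi, comap_comp, comap_comp]
      exact h1
    rw [idl_comap, idl_comap] at h1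
    have h2 : (idl (Z₀.comap i₀)).map d₀.hom = (I₀.map d.hom).map mC.hom := by
      rw [← Ideal.map_comap_of_surjective mB.hom Ideal.Quotient.mk_surjective (idl (Z₀.comap i₀)),
        Ideal.map_map, Ideal.map_map]
      rfl
    rw [h2] at h1
    have h3 := congrArg (Ideal.comap mC.hom) h1
    rw [Ideal.comap_map_of_surjective mC.hom Ideal.Quotient.mk_surjective,
      Ideal.comap_map_of_surjective mC.hom Ideal.Quotient.mk_surjective] at h3
    have hker : Ideal.comap mC.hom ⊥ = N.map (φ ≫ d).hom := Ideal.mk_ker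
    rw [hker] at h3
    exact h3.symm
  obtain ⟨I, hI, hIW⟩ := exists_ideal D₁ D₂ Wc W2
    (fun M _ _ t ht => glue_module D₁ D₂ qU h0 π hd.symm hpb M t ht) h₁ h₂ hfg N le_rfl I₀ hI₀
  refine ⟨I, hI, GrpQuot.SubDesc.comap_injective π (idl_injective ?_)⟩
  show idl (((FSch.idealSpec B I).comap qU).comap π) = idl ((W.comap (pullback.fst q j)).comap π)
  rw [← comap_comp, ← comap_comp, ← hd, idl_comap, idl_idealSpec]
  exact hIW

end local_step

end Groth.Agent.FamCyc14
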